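import Groth.Agent.L03.ShStab.Schur

/-!
# Semistable sheaves with fixed reduced polynomial: kernels and cokernels
-/

set_option autoImplicit false
set_option backward.isDefEq.respectTransparency false
set_option linter.style.haveILetI false
set_option linter.unusedSectionVars false

universe u

open CategoryTheory CategoryTheory.Limits AlgebraicGeometry Polynomial StabCat
open Groth.L03.Euler Groth.L03.ShStab Groth.L03.ShStab.Basic

namespace Groth.L17.Stable

variable {d : ℕ}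

theorem smul_eq_of_add {P Q R r : ℚ[X]} (h : R = P + Q) (hR : alpha d R • r = R) (hQ : alpha d Q • r = Q) :
    alpha d P • r = P := by
  rw [h, PolyOrd.alpha_add, add_smul, hQ] at hR
  exact add_right_cancel hR

theorem redEq_of_smul {P R r : ℚ[X]} (hP : alpha d P • r = P) (hR : alpha d R • r = R) : RedEq d P R :=
  calc alpha d R • P = alpha d R • (alpha d P • r) := by rw [hP]
    _ = alpha d P • (alpha d R • r) := smul_comm _ _ _
    _ = alpha d P • R := by rw [hR]

theorem redLE_of_smul {P R r : ℚ[X]} (hP : PolyLE P (alpha d P • r)) (hR : alpha d R • r = R)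
    (h0 : 0 ≤ alpha d R) : RedLE d P R := by
  have h := PolyOrd.polyLE_smul h0 hP
  rw [smul_comm, hR] at h
  exact h

variable {k : Type u} [Field k] {X : Scheme.{u}} [X.Over (Spec (CommRingCat.of k))]
  [IsProper (X ↘ Spec (CommRingCat.of k))] {L : X.Modules}

theorem semistable_of_iso {E E' : X.Modules} (e : E ≅ E') (h : _root_.ShStab.IsSemistable k X L E d)
    (hE' : Coh.IsCoh E') : _root_.ShStab.IsSemistable k X L E' d := by
  refine ⟨hE', fun h0 => h.2.1 (h0.of_iso e), fun F ι hι hF h0 => ?_,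
    fun F ι hι hF h0 hi pF pE hpF hpE => ?_⟩
  · haveI := hι
    exact h.2.2.1 F (ι ≫ e.inv) (mono_comp _ _) hF h0
  · haveI := hι
    refine h.2.2.2 F (ι ≫ e.inv) (mono_comp _ _) hF h0 (fun hi' => hi ?_) pF pE hpF (isHilbPoly_iso e.symm hpE)
    have : ι = (ι ≫ e.inv) ≫ e.hom := by simp
    rw [this]
    infer_instance

theorem alpha_smul_red (hL : CohB1.IsAmple L) {E : X.Modules} (h : _root_.ShStab.IsSemistable k X L E d)
    {P : ℚ[X]} (hP : _root_.ShStab.IsHilbPoly k X L E P) : alpha d P • red d P = P :=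
  PolyOrd.smul_red (Schur.alpha_pos_of_isSemistable hL h hP).ne'

theorem sub_le_smul (hL : CohB1.IsAmple L) {E F : X.Modules} (hE : _root_.ShStab.IsSemistable k X L E d)
    (ι : F ⟶ E) [Mono ι] (hF : Coh.IsCoh F) {pF pE : ℚ[X]}
    (hpF : _root_.ShStab.IsHilbPoly k X L F pF) (hpE : _root_.ShStab.IsHilbPoly k X L E pE) :
    PolyLE pF (alpha d pF • red d pE) := by
  by_cases h0 : IsZero F
  · rw [isHilbPoly_unique hpF (isHilbPoly_zero hL.1 h0)]
    simpa [alpha] using PolyOrd.polyLE_refl (0 : ℚ[X])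
  · have ha := alpha_pos_sub hL hE.2.2.1 ι hF h0 hpF
    have h := PolyOrd.polyLE_smul ha.le (Schur.red_le_of_mono hL hE ι hF h0 hpF hpE)
    rwa [PolyOrd.smul_red ha.ne'] at h

theorem hilb_epi (hL : CohB1.IsAmple L) {F C : X.Modules} (hF : Coh.IsCoh F) (hC : Coh.IsCoh C)
    (π : F ⟶ C) [Epi π] {PF PK PC : ℚ[X]} (hPF : _root_.ShStab.IsHilbPoly k X L F PF)
    (hPK : _root_.ShStab.IsHilbPoly k X L (kernel π) PK)
    (hPC : _root_.ShStab.IsHilbPoly k X L C PC) : PF = PK + PC := by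
  obtain ⟨h1, -, -⟩ := coh_parts k hF hC π
  exact isHilbPoly_unique hPF (isHilbPoly_add hL.1
    (ShortComplex.ShortExact.mk (ShortComplex.exact_kernel π) :
      (ShortComplex.mk (kernel.ι π) π (kernel.condition π)).ShortExact) h1 hF hC hPK hPC)

/-- A submodule of a semistable module whose polynomial is on the line of the ambient one. -/
theorem semistable_sub (hL : CohB1.IsAmple L) {E K : X.Modules} (hE : _root_.ShStab.IsSemistable k X L E d)
    (ι : K ⟶ E) [Mono ι] (hK : Coh.IsCoh K) (hK0 : ¬ IsZero K) {pE pK : ℚ[X]}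
    (hpE : _root_.ShStab.IsHilbPoly k X L E pE) (hpK : _root_.ShStab.IsHilbPoly k X L K pK)
    (h : alpha d pK • red d pE = pK) : _root_.ShStab.IsSemistable k X L K d := by
  refine ⟨hK, hK0, isPure_sub hE.2.2.1 ι, fun G κ hκ hG h0 _ pG pK' hpG hpK' => ?_⟩
  haveI := hκ
  rw [isHilbPoly_unique hpK' hpK]
  exact redLE_of_smul (sub_le_smul hL hE (κ ≫ ι) hG hpG hpE) h (alpha_pos_sub hL hE.2.2.1 ι hK hK0 hpK).le

/-- A quotient of a semistable module whose polynomial is on the line of the ambient one. -/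
theorem semistable_quot (hL : CohB1.IsAmple L) {F C : X.Modules} (hF : _root_.ShStab.IsSemistable k X L F d)
    (π : F ⟶ C) [Epi π] (hC : Coh.IsCoh C) (hC0 : ¬ IsZero C) {pF pC : ℚ[X]}
    (hpF : _root_.ShStab.IsHilbPoly k X L F pF) (hpC : _root_.ShStab.IsHilbPoly k X L C pC)
    (h : alpha d pC • red d pF = pC) : _root_.ShStab.IsSemistable k X L C d := by
  have dF := dim_le_of_isPure hF.1 hF.2.2.1
  have dC := dim_quot_le π dF
  have hpC0 : pC ≠ 0 := fun h0 => hC0 (isZero_of_hilb_eq_zero hL hC dC (h0 ▸ hpC))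
  have ha : 0 < alpha d pC :=
    lt_of_le_of_ne (alpha_nonneg hL hC dC hpC) fun h0 => hpC0 (by rw [← h, ← h0, zero_smul])
  have hdim : topologicalKrullDim (CohB1.support C) = d := by
    obtain ⟨e, he, he'⟩ := exists_nat_dim hC0 dC
    rcases he.eq_or_lt with rfl | hlt
    · exact he'
    · exact absurd (PolyOrd.alpha_eq_zero_iff.2 (coeff_eq_zero_of_natDegree_lt
        (lt_of_le_of_lt (natDegree_le hL.1 hC he'.le hpC) hlt))) ha.ne'
  have hss : IsSS Coh.IsCoh (_root_.ShStab.IsHilbPoly k X L) d C := by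
    intro G κ hκ hG _ _ pG pC' hpG hpC'
    haveI := hκ
    rw [isHilbPoly_unique hpC' hpC]
    obtain ⟨-, -, hQ⟩ := coh_parts k hG hC κ
    obtain ⟨hP, -, -⟩ := coh_parts k hF.1 hQ (π ≫ cokernel.π κ)
    obtain ⟨hK, -, -⟩ := coh_parts k hF.1 hC π
    haveI : Epi (π ≫ cokernel.π κ) := epi_comp _ _
    obtain ⟨pQ, hpQ⟩ := exists_hilb (k := k) hL.1 hQ (dim_quot_le (cokernel.π κ) dC)
    obtain ⟨pP, hpP⟩ := exists_hilb (k := k) hL.1 hP (dim_sub_le (kernel.ι (π ≫ cokernel.π κ)) dF)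
    obtain ⟨pI, hpI⟩ := exists_hilb (k := k) hL.1 hK (dim_sub_le (kernel.ι π) dF)
    have e1 := hilb_epi hL hF.1 hC π hpF hpI hpC
    have e2 := hilb_epi hL hF.1 hQ (π ≫ cokernel.π κ) hpF hpP hpQ
    have e3 := hilb_cokernel hL hG hC κ hpG hpC hpQ
    have e4 : pP = pI + pG := by linear_combination e1 - e2 + e3
    have hI : alpha d pI • red d pF = pI := smul_eq_of_add e1 (alpha_smul_red hL hF hpF) h
    have hle := sub_le_smul hL hF (kernel.ι (π ≫ cokernel.π κ)) hP hpP hpF
    rw [e4, PolyOrd.alpha_add, add_smul, hI] at hle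
    refine redLE_of_smul ?_ h ha.le
    obtain ⟨N, hN⟩ := hle
    exact ⟨N, fun m hm => by simpa [eval_add] using hN m hm⟩
  exact ⟨hC, hC0, Schur.isPure_of_isSS hL hC hC0 hdim hss, hss⟩

theorem kernel_cokernel (hL : CohB1.IsAmple L) {E F : X.Modules}
    (hE : _root_.ShStab.IsSemistable k X L E d) (hF : _root_.ShStab.IsSemistable k X L F d)
    {pE pF : ℚ[X]} (hpE : _root_.ShStab.IsHilbPoly k X L E pE) (hpF : _root_.ShStab.IsHilbPoly k X L F pF)
    (hred : RedEq d pE pF) (f : E ⟶ F) :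
    (IsZero (kernel f) ∨ (_root_.ShStab.IsSemistable k X L (kernel f) d ∧
        ∀ pK, _root_.ShStab.IsHilbPoly k X L (kernel f) pK → RedEq d pK pE)) ∧
    (IsZero (cokernel f) ∨ (_root_.ShStab.IsSemistable k X L (cokernel f) d ∧
        ∀ pQ, _root_.ShStab.IsHilbPoly k X L (cokernel f) pQ → RedEq d pQ pE)) := by
  obtain ⟨hK, hI, hC⟩ := coh_parts k hE.1 hF.1 f
  have dF := dim_le_of_isPure hF.1 hF.2.2.1
  have dE := dim_le_of_isPure hE.1 hE.2.2.1
  have hr : red d pE = red d pF := (PolyOrd.redEq_iff (Schur.alpha_pos_of_isSemistable hL hE hpE)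
    (Schur.alpha_pos_of_isSemistable hL hF hpF)).1 hred
  by_cases hf : f = 0
  · subst hf
    exact ⟨Or.inr ⟨semistable_of_iso kernelZeroIsoSource.symm hE hK, fun pK hpK => by
        rw [isHilbPoly_unique hpK (isHilbPoly_iso kernelZeroIsoSource.symm hpE)]; rfl⟩,
      Or.inr ⟨semistable_of_iso cokernelZeroIsoTarget.symm hF hC, fun pQ hpQ => by
        rw [isHilbPoly_unique hpQ (isHilbPoly_iso cokernelZeroIsoTarget.symm hpF)]
        exact hred.symm⟩⟩
  obtain ⟨pI, hpI, hI0, h1, h2, -, -⟩ := Schur.image_facts hL hE hF hpE hpF hf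
  rw [← hr] at h2
  have hrI : red d pI = red d pE := PolyOrd.polyLE_antisymm h2 h1
  have hIs : alpha d pI • red d pE = pI := by
    rw [← hrI]
    exact PolyOrd.smul_red (alpha_pos_sub hL hF.2.2.1 (Abelian.image.ι f) hI hI0 hpI).ne'
  have hEs := alpha_smul_red hL hE hpE
  refine ⟨or_iff_not_imp_left.2 fun hK0 => ?_, or_iff_not_imp_left.2 fun hC0 => ?_⟩
  · obtain ⟨pK, hpK⟩ := exists_hilb (k := k) hL.1 hK (dim_sub_le (kernel.ι f) dE)
    have hKs : alpha d pK • red d pE = pK :=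
      smul_eq_of_add (hilb_kernel_image hL hE.1 hF.1 f hpE hpK hpI) hEs hIs
    exact ⟨semistable_sub hL hE (kernel.ι f) hK hK0 hpE hpK hKs, fun p hp => by
      rw [isHilbPoly_unique hp hpK]; exact redEq_of_smul hKs hEs⟩
  · obtain ⟨pC, hpC⟩ := exists_hilb (k := k) hL.1 hC (dim_quot_le (cokernel.π f) dF)
    have e := hilb_epi hL hF.1 hC (cokernel.π f) hpF hpI hpC
    have hFs := alpha_smul_red hL hF hpF
    rw [← hr] at hFs
    rw [add_comm] at e
    have hCs : alpha d pC • red d pE = pC := smul_eq_of_add e hFs hIs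
    exact ⟨semistable_quot hL hF (cokernel.π f) hC hC0 hpF hpC (hr ▸ hCs), fun p hp => by
      rw [isHilbPoly_unique hp hpC]; exact redEq_of_smul hCs hEs⟩

end Groth.L17.Stable
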