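import Groth.Agent.L03.ShStab.Scalar
import Groth.Agent.L11.Lemma179.Bridge
import Groth.Agent.L11.Lemma179.Diff
import Groth.Agent.L18.Ample
import Mathlib.Order.PiLex
import Mathlib.Data.Rat.Defs

/-!
# Lexicographically stable sheaves are simple
-/

set_option autoImplicit false
set_option backward.isDefEq.respectTransparency false
set_option linter.style.haveILetI false
set_option linter.unusedSectionVars false

universe u

open CategoryTheory CategoryTheory.Limits AlgebraicGeometry Polynomial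

noncomputable section

namespace Groth.L17.Stable

open Groth.L03.Euler Groth.L03.ShStab.Basic

/-- Two vectors both below a third cannot average to it. -/
theorem not_lex_lt_of_add {ℓ : ℕ} (x y z : Fin ℓ → ℚ) (a b : ℚ) (ha : 0 < a) (hb : 0 < b)
    (h : ∀ i, a * x i + b * y i = (a + b) * z i) (hx : toLex x < toLex z) (hy : toLex y < toLex z) : False := by
  obtain ⟨i, hi, hxi⟩ := hx
  obtain ⟨j, hj, hyj⟩ := hy
  change x i < z i at hxi
  change y j < z j at hyj
  rcases lt_trichotomy i j with hij | rfl | hij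
  · have e : y i = z i := hj i hij
    have := h i
    rw [e] at this
    nlinarith
  · have := h i
    nlinarith
  · have e : x j = z j := hi j hij
    have := h j
    rw [e] at this
    nlinarith

variable {k : Type u} [Field k] [IsAlgClosed k] {X : Scheme.{u}} [X.Over (Spec (CommRingCat.of k))]
  {N : ℕ} (ι : X ⟶ CohB1.ProjSpace N k) [IsClosedImmersion ι]
  (hι : ι ≫ CohB1.ProjSpace.toSpec N k = X ↘ Spec (CommRingCat.of k))

include hι in
/-- Hilbert polynomials at all integers. -/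
theorem hilb_iff {G : X.Modules} (hG : Coh.IsCoh G) (Q : ℚ[X]) :
    ShStab.IsHilbPoly k X ((Scheme.Modules.pullback ι).obj (Twist.twistProjSpace N k 1)) G Q ↔
      ∀ m : ℤ, (Curv2.euler k X (Pic13.twistOn k ι G m) : ℚ) = Q.eval (m : ℚ) := by
  refine ⟨fun h m => ?_, fun h m => ?_⟩
  · have h1 := Groth.L11.Lemma179.chiP_push_eval ι hι (r := 1)
      ⟨Groth.L00.Tensor.tensorUnitLeft ((Scheme.Modules.pullback ι).obj (Twist.twistProjSpace N k 1))⟩ hG h m
    rw [Groth.L22.Reg.chiP_push ι hι hG] at h1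
    rw [h1]
    simp
  · obtain ⟨e⟩ := Groth.L22.Reg.nonempty_twist_twistOn ι _ ⟨Iso.refl _⟩ G m
    rw [euler_iso (k := k) e, h (m : ℤ)]
    norm_num

include hι in
theorem exists_scalar {d ℓ : ℕ} (E : X.Modules) (hE : Coh.IsCoh E) (P : ℚ[X]) (hP0 : P ≠ 0)
    (hP : ∀ m : ℤ, (Curv2.euler k X (Pic13.twistOn k ι E m) : ℚ) = P.eval (m : ℚ))
    (hpure : ∀ (F : X.Modules) (j : F ⟶ E), Mono j → Coh.IsCoh F → ¬ IsZero F →
      topologicalKrullDim (CohB1.support F) = (d : WithBot ℕ∞))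
    (hst : ∀ (F : X.Modules) (j : F ⟶ E), Mono j → Coh.IsCoh F → ∀ Q : ℚ[X],
      (∀ m : ℤ, (Curv2.euler k X (Pic13.twistOn k ι F m) : ℚ) = Q.eval (m : ℚ)) →
        0 < Q.coeff d → Q.coeff d < P.coeff d →
          toLex (fun j : Fin ℓ => ((Q).coeff (d - 1 - (j : ℕ)) * (Nat.factorial (d - 1 - (j : ℕ)) : ℚ)) / ((Q).coeff d * (Nat.factorial d : ℚ))) < toLex (fun j : Fin ℓ => ((P).coeff (d - 1 - (j : ℕ)) * (Nat.factorial (d - 1 - (j : ℕ)) : ℚ)) / ((P).coeff d * (Nat.factorial d : ℚ))))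
    (φ : E ⟶ E) :
    ∃ c : k, φ = Groth.L03.ShStab.Scalar.sc E (Coh.toGlobal (X ↘ Spec (CommRingCat.of k)) c) := by
  haveI := Groth.L11.Lemma179.isProper_of_closed ι hι
  have hL : CohB1.IsAmple ((Scheme.Modules.pullback ι).obj (Twist.twistProjSpace N k 1)) :=
    Groth.L18.Ample.isAmple_pullback_of_isAffineHom ι Groth.L11.Lemma179.isAmple_O1'
  have hp : ShStab.IsPure X E d := hpure
  have hPE := (hilb_iff ι hι hE P).2 hP
  have h0 : ¬ IsZero E := fun hz => hP0 (isHilbPoly_unique hPE (isHilbPoly_zero hL.1 hz))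
  have hdim := dim_le_of_isPure hE hp
  refine Groth.L03.ShStab.Scalar.exists_eq_sc_of_isIso hE h0 (fun ψ hψ => ?_) φ
  obtain ⟨hK, hI, hC⟩ := coh_parts k hE hE ψ
  obtain ⟨pK, hpK⟩ := exists_hilb (k := k) hL.1 hK (dim_sub_le (kernel.ι ψ) hdim)
  obtain ⟨pI, hpI⟩ := exists_hilb (k := k) hL.1 hI (dim_sub_le (Abelian.image.ι ψ) hdim)
  have hsum := hilb_kernel_image hL hE hE ψ hPE hpK hpI
  haveI : Mono ψ := by
    by_contra hm
    have hK0 : ¬ IsZero (kernel ψ) := fun hz => hm (Preadditive.mono_of_isZero_kernel ψ hz)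
    have hI0 : ¬ IsZero (Abelian.image ψ) := fun hz => hψ (by
      rw [← Abelian.image.fac ψ, hz.eq_of_tgt (Abelian.factorThruImage ψ) 0, Limits.zero_comp])
    have ha : 0 < pK.coeff d :=
      Groth.L03.ShStab.PolyOrd.alpha_pos_iff.1 (alpha_pos_sub hL hp (kernel.ι ψ) hK hK0 hpK)
    have hb : 0 < pI.coeff d :=
      Groth.L03.ShStab.PolyOrd.alpha_pos_iff.1 (alpha_pos_sub hL hp (Abelian.image.ι ψ) hI hI0 hpI)
    have hcd : P.coeff d = pK.coeff d + pI.coeff d := by rw [hsum, coeff_add]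
    refine not_lex_lt_of_add _ _ _ (pK.coeff d) (pI.coeff d) ha hb (fun i => ?_)
      (hst _ (kernel.ι ψ) inferInstance hK pK ((hilb_iff ι hι hK pK).1 hpK) ha (by linarith))
      (hst _ (Abelian.image.ι ψ) inferInstance hI pI ((hilb_iff ι hι hI pI).1 hpI) hb (by linarith))
    have hf : (0 : ℚ) < (Nat.factorial d : ℚ) := by exact_mod_cast d.factorial_pos
    rw [hcd, hsum, coeff_add]
    field_simp
  obtain ⟨pC, hpC⟩ := exists_hilb (k := k) hL.1 hC (dim_quot_le (cokernel.π ψ) hdim)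
  have h := hilb_cokernel hL hE hE ψ hPE hPE hpC
  rw [left_eq_add] at h
  haveI : Epi ψ := Preadditive.epi_of_isZero_cokernel ψ
    (isZero_of_hilb_eq_zero hL hC (dim_quot_le (cokernel.π ψ) hdim) (h ▸ hpC))
  exact isIso_of_mono_of_epi ψ

end Groth.L17.Stable
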